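import Groth.Agent.LieKol.Abstract
import Groth.Agent.ComodLib.Trig
import Groth.Agent.MultTypeLib.ConnCrit
import Mathlib.RingTheory.Spectrum.Prime.Jacobson
import Mathlib.RingTheory.Jacobson.Ring
import Mathlib.FieldTheory.IsAlgClosed.Basic
import Groth.Agent.CoradFil.Points

/-!
# Lie–Kolchin for affine groups
-/

set_option autoImplicit false

universe u v

open TensorProduct WithConv
open scoped commutatorElement

noncomputable section

namespace Groth.Agent.LieKol

open Groth.Agent.ComodLib

variable {k : Type u} [Field k] {A : Type v} [CommRing A] [HopfAlgebra k A]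

/-- The Zariski topology on rational points. -/
@[instance_reducible]
def ptTop : TopologicalSpace (WithConv (A →ₐ[k] k)) :=
  TopologicalSpace.induced (fun g => (⟨RingHom.ker g.ofConv, RingHom.ker_isPrime _⟩ : PrimeSpectrum A)) inferInstance

attribute [local instance] ptTop

theorem isClosed_eq (a : A) (c : k) : IsClosed {g : WithConv (A →ₐ[k] k) | g.ofConv a = c} := by
  refine ⟨⟨(PrimeSpectrum.zeroLocus {a - algebraMap k A c})ᶜ, (PrimeSpectrum.isClosed_zeroLocus _).isOpen_compl, ?_⟩⟩
  ext g
  simp [sub_eq_zero]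

/-- Composition with an algebra map, as a map of monoids of points. -/
def push {R : Type*} [CommRing R] [Algebra k R] {R' : Type*} [CommRing R'] [Algebra k R'] (f : R →ₐ[k] R') :
    WithConv (A →ₐ[k] R) →* WithConv (A →ₐ[k] R') where
  toFun g := toConv (f.comp g.ofConv)
  map_one' := by
    refine WithConv.ext (AlgHom.ext fun a => ?_)
    show f ((1 : WithConv (A →ₐ[k] R)) a) = (1 : WithConv (A →ₐ[k] R')) a
    rw [AlgHom.convOne_apply, AlgHom.convOne_apply, AlgHom.commutes]
  map_mul' g h := WithConv.ext (AlgHom.comp_convMul_distrib f g h)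

/-- A word in the universal point defines a continuous self-map of the points. -/
theorem continuous_word (w : WithConv (A →ₐ[k] A)) :
    Continuous (fun g : WithConv (A →ₐ[k] k) => push g.ofConv w : WithConv (A →ₐ[k] k) → WithConv (A →ₐ[k] k)) := by
  refine continuous_induced_rng.2 ?_
  have h1 : Continuous fun g : WithConv (A →ₐ[k] k) =>
      (⟨RingHom.ker g.ofConv, RingHom.ker_isPrime _⟩ : PrimeSpectrum A) := continuous_induced_dom
  exact (PrimeSpectrum.continuous_comap w.ofConv.toRingHom).comp h1

theorem wordsContinuous : WordsContinuous (WithConv (A →ₐ[k] k)) := by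
  let X : WithConv (A →ₐ[k] A) := toConv (AlgHom.id k A)
  let c : WithConv (A →ₐ[k] k) → WithConv (A →ₐ[k] A) := fun a => push (Algebra.ofId k A) a
  have hX : ∀ g : WithConv (A →ₐ[k] k), push g.ofConv X = g := fun _ => rfl
  have hc : ∀ (g a : WithConv (A →ₐ[k] k)), push g.ofConv (c a) = a := fun g a =>
    WithConv.ext (AlgHom.ext fun x => by
      show g.ofConv (algebraMap k A (a.ofConv x)) = a.ofConv x
      rw [AlgHom.commutes]; rfl)
  refine ⟨fun a => ?_, fun a => ?_, fun a => ?_⟩
  · convert continuous_word (c a * X) using 2 with g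
    rw [map_mul, hc, hX]
  · convert continuous_word (X⁻¹ * c a * X) using 2 with g
    rw [map_mul, map_mul, map_inv, hc, hX]
  · convert continuous_word (X * c a * X⁻¹ * (c a)⁻¹) using 2 with g
    rw [map_mul, map_mul, map_mul, map_inv, map_inv, hc, hX, commutatorElement_def]

variable [IsAlgClosed k] [Algebra.FiniteType k A] [IsReduced A]

/-- Rational points separate functions. -/
theorem eq_zero_of_forall_pt {f : A} (h : ∀ g : A →ₐ[k] k, g f = 0) : f = 0 := by
  haveI : IsJacobsonRing A := isJacobsonRing_of_finiteType (A := k) (B := A)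
  have hj : (⊥ : Ideal A).jacobson = ⊥ := IsJacobsonRing.out ‹_› (Ideal.isRadical_bot (R := A))
  have : f ∈ (⊥ : Ideal A).jacobson := Ideal.mem_sInf.2 fun {m} hm => by
    haveI : m.IsMaximal := hm.2
    letI : Field (A ⧸ m) := Ideal.Quotient.field m
    haveI : Module.Finite k (A ⧸ m) := finite_of_finite_type_of_isJacobsonRing k (A ⧸ m)
    let e : k ≃ₐ[k] A ⧸ m := AlgEquiv.ofBijective (Algebra.ofId k (A ⧸ m))
      IsAlgClosed.algebraMap_bijective_of_isIntegral
    exact Ideal.Quotient.eq_zero_iff_mem.1 ((map_eq_zero_iff _ e.symm.injective).1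
      (h (e.symm.toAlgHom.comp (Ideal.Quotient.mkₐ k m))))
  rw [hj] at this
  exact this

omit [IsReduced A] in
theorem isPreconnected_pts (hconn : ∀ e : A, IsIdempotentElem e → e = 0 ∨ e = 1) :
    IsPreconnected (Set.univ : Set (WithConv (A →ₐ[k] k))) := by
  haveI : Nontrivial A := ⟨0, 1, fun h => by
    have := congrArg (Bialgebra.counitAlgHom k A) h
    rw [map_zero, map_one] at this
    exact zero_ne_one this⟩
  haveI := MultTypeLib.connectedSpace_of_idem hconn
  haveI : IsJacobsonRing A := isJacobsonRing_of_finiteType (A := k) (B := A)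
  let ι : WithConv (A →ₐ[k] k) → PrimeSpectrum A := fun g => ⟨RingHom.ker g.ofConv, RingHom.ker_isPrime _⟩
  have hpt : ∀ x ∈ closedPoints (PrimeSpectrum A), ∃ g, ι g = x := by
    intro x hx
    haveI : x.asIdeal.IsMaximal := (PrimeSpectrum.isClosed_singleton_iff_isMaximal x).1 hx
    letI : Field (A ⧸ x.asIdeal) := Ideal.Quotient.field _
    haveI : Module.Finite k (A ⧸ x.asIdeal) := finite_of_finite_type_of_isJacobsonRing k (A ⧸ x.asIdeal)
    let e : k ≃ₐ[k] A ⧸ x.asIdeal := AlgEquiv.ofBijective (Algebra.ofId k (A ⧸ x.asIdeal))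
      IsAlgClosed.algebraMap_bijective_of_isIntegral
    refine ⟨toConv (e.symm.toAlgHom.comp (Ideal.Quotient.mkₐ k x.asIdeal)), PrimeSpectrum.ext (Ideal.ext fun a => ?_)⟩
    simp [ι, Ideal.Quotient.eq_zero_iff_mem]
  have hfull : ∀ Z : Set (PrimeSpectrum A), IsClosed Z → closedPoints (PrimeSpectrum A) ⊆ Z → Z = Set.univ :=
    fun Z hZ h => Set.eq_univ_of_univ_subset (closure_closedPoints (X := PrimeSpectrum A) ▸ closure_minimal h hZ)
  refine isPreconnected_closed_iff.2 fun F G hF hG hcov hFne hGne => ?_
  obtain ⟨F', hF', rfl⟩ := isClosed_induced_iff.1 hF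
  obtain ⟨G', hG', rfl⟩ := isClosed_induced_iff.1 hG
  obtain ⟨f, -, hf⟩ := hFne
  obtain ⟨g, -, hg⟩ := hGne
  have h1 : F' ∪ G' = Set.univ := hfull _ (hF'.union hG') fun x hx => by
    obtain ⟨p, rfl⟩ := hpt x hx
    exact hcov (Set.mem_univ p)
  obtain ⟨x, -, hx⟩ := isPreconnected_closed_iff.1 PreconnectedSpace.isPreconnected_univ F' G' hF' hG' h1.ge
    ⟨_, trivial, hf⟩ ⟨_, trivial, hg⟩
  obtain ⟨y, hy, hyc⟩ := nonempty_inter_closedPoints (Z := F' ∩ G') ⟨x, hx⟩ (hF'.inter hG').isLocallyClosed
  obtain ⟨p, rfl⟩ := hpt y hyc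
  exact ⟨p, trivial, hy⟩

omit [IsAlgClosed k] [Algebra.FiniteType k A] [IsReduced A] in
/-- The representation of the points on a comodule. -/
def rep (V : Type v) [AddCommGroup V] [Module k V] [HopfRep.Comod k A V] :
    WithConv (A →ₐ[k] k) →* Module.End k V where
  toFun g := actF g.ofConv.toLinearMap
  map_one' := LinearMap.ext fun v => actF_counit v
  map_mul' g h := LinearMap.ext fun v => by
    rw [Module.End.mul_apply]
    refine Eq.trans ?_ (actF_convMul (CoradFil.lin g) (CoradFil.lin h) v)
    rw [← map_mul]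
    rfl

omit [IsAlgClosed k] [Algebra.FiniteType k A] [IsReduced A] in
theorem apply_rep {V : Type v} [AddCommGroup V] [Module k V] [HopfRep.Comod k A V] (f : V →ₗ[k] k)
    (g : WithConv (A →ₐ[k] k)) (v : V) :
    f (rep V g v) = g.ofConv (TensorProduct.lid k A (f.rTensor A (HopfRep.Comod.coact (k := k) (A := A) v))) := by
  show f (actF g.ofConv.toLinearMap v) = _
  rw [actF_apply]
  induction HopfRep.Comod.coact (k := k) (A := A) v using TensorProduct.induction_on with
  | zero => simp
  | tmul x a => simp [mul_comm]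
  | add p q hp hq => simp only [map_add, hp, hq]

omit [IsAlgClosed k] [Algebra.FiniteType k A] [IsReduced A] in
theorem eigClosed (V : Type v) [AddCommGroup V] [Module k V] [HopfRep.Comod k A V] :
    EigClosed (rep (k := k) (A := A) V) := by
  intro v c
  have : {g : WithConv (A →ₐ[k] k) | rep V g v = c • v} = ⋂ f : Module.Dual k V,
      {g | g.ofConv (TensorProduct.lid k A (f.rTensor A (HopfRep.Comod.coact (k := k) (A := A) v))) = c * f v} := by
    ext g
    simp only [Set.mem_ofPred_eq, Set.mem_iInter, ← apply_rep]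
    refine ⟨fun h f => by rw [h, map_smul, smul_eq_mul], fun h => ?_⟩
    rw [← sub_eq_zero]
    exact (Module.forall_dual_apply_eq_zero_iff k _).1 fun f => by rw [map_sub, h f, map_smul, smul_eq_mul, sub_self]
  rw [this]
  exact isClosed_iInter fun f => isClosed_eq _ _

/-- **Lie–Kolchin**: a connected solvable reduced group is trigonalizable. -/
theorem isTrigonalizable (hconn : ∀ e : A, IsIdempotentElem e → e = 0 ∨ e = 1)
    [Group.IsSolvable (WithConv (A →ₐ[k] k))] : HopfRep.IsTrigonalizable k A := by
  intro V _ _ _ _ hs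
  haveI : Nontrivial V := hs.1
  obtain ⟨v, hv, he⟩ := exists_eigvec (ρ := rep (k := k) (A := A) V) wordsContinuous (isPreconnected_pts hconn) (eigClosed V)
  obtain ⟨l, hl⟩ := Module.Projective.exists_dual_ne_zero k hv
  obtain ⟨φ, hφ⟩ : ∃ φ : Module.Dual k V, φ v = 1 := ⟨(l v)⁻¹ • l, by simp [hl]⟩
  set χ := TensorProduct.lid k A (φ.rTensor A (HopfRep.Comod.coact (k := k) (A := A) v)) with hχ
  have hc : ∀ g, rep V g v = g.ofConv χ • v := fun g => by
    obtain ⟨c, hc⟩ := he g
    rw [hχ, ← apply_rep, hc, map_smul, hφ, smul_eq_mul, mul_one]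
  have hcoact : HopfRep.Comod.coact (k := k) (A := A) v = v ⊗ₜ[k] χ := by
    have hz : ∀ f : Module.Dual k V,
        TensorProduct.lid k A (f.rTensor A (HopfRep.Comod.coact (k := k) (A := A) v)) = f v • χ := fun f => by
      refine sub_eq_zero.1 (eq_zero_of_forall_pt (k := k) fun g => ?_)
      rw [map_sub, map_smul, show g (TensorProduct.lid k A (f.rTensor A (HopfRep.Comod.coact (k := k) (A := A) v))) =
        f (rep V (toConv g) v) from (apply_rep f (toConv g) v).symm, hc, map_smul, ofConv_toConv, smul_eq_mul,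
        smul_eq_mul, mul_comm, sub_self]
    classical
    let b := Module.finBasis k V
    have hsum : ∀ z : V ⊗[k] A, z = ∑ i, b i ⊗ₜ[k] TensorProduct.lid k A ((b.coord i).rTensor A z) := fun z => by
      induction z using TensorProduct.induction_on with
      | zero => simp
      | tmul x a =>
        simp only [LinearMap.rTensor_tmul, TensorProduct.lid_tmul, Module.Basis.coord_apply]
        conv_lhs => rw [← b.sum_repr x, TensorProduct.sum_tmul]
        exact Finset.sum_congr rfl fun i _ => (TensorProduct.smul_tmul _ _ _)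
      | add p q hp hq =>
        simp only [map_add, tmul_add, Finset.sum_add_distrib]
        rw [← hp, ← hq]
    rw [hsum (HopfRep.Comod.coact (k := k) (A := A) v), hsum (v ⊗ₜ[k] χ)]
    simp only [hz, LinearMap.rTensor_tmul, TensorProduct.lid_tmul]
  rcases hs.2 (Submodule.span k {v}) (by
      intro y hy
      obtain ⟨c, rfl⟩ := Submodule.mem_span_singleton.1 hy
      refine ⟨(c • (⟨v, Submodule.mem_span_singleton_self _⟩ : Submodule.span k {v})) ⊗ₜ[k] χ, ?_⟩
      rw [LinearMap.rTensor_tmul, map_smul, map_smul, hcoact, TensorProduct.smul_tmul']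
      rfl) with h | h
  · exact absurd (Submodule.span_singleton_eq_bot.1 h) hv
  · rw [← finrank_top, ← h, finrank_span_singleton hv]

omit [IsAlgClosed k] [Algebra.FiniteType k A] [IsReduced A] in
/-- Commutators act unipotently in a trigonalizable group. -/
theorem isNilpotent_rep_sub_one (hT : HopfRep.IsTrigonalizable k A) {g : WithConv (A →ₐ[k] k)}
    (hg : g ∈ commutator (WithConv (A →ₐ[k] k))) (V : Type v) [AddCommGroup V] [Module k V] [HopfRep.Comod k A V]
    [Module.Finite k V] : IsNilpotent (rep (k := k) (A := A) V g - 1) := by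
  classical
  obtain ⟨F, hmono, hsub, htop, hrk⟩ := exists_flag hT V
  have hst : ∀ (h : WithConv (A →ₐ[k] k)) i, ∀ x ∈ F i, rep V h x ∈ F i := fun h i x hx => by
    obtain ⟨z, hz⟩ := hsub i x hx
    show actF h.ofConv.toLinearMap x ∈ F i
    rw [actF_apply, ← hz]
    clear hz
    induction z using TensorProduct.induction_on with
    | zero => simp
    | tmul p a => simpa using Submodule.smul_mem _ _ p.2
    | add p q hp hq => rw [map_add, map_add]; exact Submodule.add_mem _ hp hq
  have step : ∀ i, i < Module.finrank k V → ∀ x ∈ F (i + 1), rep V g x - x ∈ F i := by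
    intro i hi
    obtain ⟨y, hy, hyi⟩ := SetLike.exists_of_lt (lt_of_le_of_ne (hmono (Nat.le_succ i)) fun e => by
      have h1 := hrk i hi.le
      have h2 := hrk (i + 1) hi
      rw [show F i = F (i + 1) from e] at h1; omega)
    have hF : F (i + 1) = F i ⊔ Submodule.span k {y} := by
      refine (Submodule.eq_of_le_of_finrank_le (sup_le (hmono (Nat.le_succ i)) ((Submodule.span_singleton_le_iff_mem _ _).2 hy)) ?_).symm
      have h1 : F i < F i ⊔ Submodule.span k {y} := lt_of_le_of_ne le_sup_left fun e =>
        hyi (e ▸ Submodule.mem_sup_right (Submodule.mem_span_singleton_self y))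
      have h2 := Submodule.finrank_lt_finrank_of_lt h1
      rw [hrk i hi.le] at h2
      rw [hrk (i + 1) hi]
      omega
    have hc : ∀ h : WithConv (A →ₐ[k] k), ∃ c : k, rep V h y - c • y ∈ F i := fun h => by
      have := hst h (i + 1) y hy
      rw [hF, Submodule.mem_sup] at this
      obtain ⟨p, hp, q, hq, e⟩ := this
      obtain ⟨c, rfl⟩ := Submodule.mem_span_singleton.1 hq
      exact ⟨c, by rw [← e, add_sub_cancel_right]; exact hp⟩
    choose c hc using hc
    have huniq : ∀ a b : k, ∀ x : V, x - a • y ∈ F i → x - b • y ∈ F i → a = b := fun a b x ha hb => by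
      by_contra hab
      have := Submodule.smul_mem _ (a - b)⁻¹ (Submodule.sub_mem _ hb ha)
      rw [show (x - b • y) - (x - a • y) = (a - b) • y by rw [sub_smul]; abel, smul_smul,
        inv_mul_cancel₀ (sub_ne_zero.2 hab), one_smul] at this
      exact hyi this
    let χ : WithConv (A →ₐ[k] k) →* k :=
      { toFun := c
        map_one' := huniq _ _ _ (hc 1) (by rw [map_one, Module.End.one_apply, one_smul, sub_self]; exact Submodule.zero_mem _)
        map_mul' := fun p q => huniq _ _ _ (hc (p * q)) (by
          have h1 := hst p i _ (hc q)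
          rw [map_sub, map_smul] at h1
          have h2 := Submodule.smul_mem _ (c q) (hc p)
          rw [map_mul, Module.End.mul_apply]
          have := Submodule.add_mem _ h1 h2
          rwa [smul_sub, smul_smul, mul_comm (c q), sub_add_sub_cancel] at this) }
    have hg1 : c g = 1 := by
      have := Abelianization.commutator_subset_ker χ.toHomUnits hg
      exact congrArg Units.val this
    intro x hx
    rw [hF, Submodule.mem_sup] at hx
    obtain ⟨p, hp, q, hq, rfl⟩ := hx
    obtain ⟨d, rfl⟩ := Submodule.mem_span_singleton.1 hq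
    rw [map_add, map_smul, show rep V g p + d • rep V g y - (p + d • y) = (rep V g p - p) + d • (rep V g y - y) by
      rw [smul_sub]; abel]
    refine Submodule.add_mem _ (Submodule.sub_mem _ (hst g i p hp) hp) (Submodule.smul_mem _ d ?_)
    simpa [hg1] using hc g
  refine ⟨Module.finrank k V, LinearMap.ext fun x => ?_⟩
  have h : ∀ j, j ≤ Module.finrank k V →
      ((rep (k := k) (A := A) V g - 1) ^ j) x ∈ F (Module.finrank k V - j) := fun j => by
    induction j with
    | zero => intro _; rw [Nat.sub_zero, htop]; trivial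
    | succ j ih =>
      intro hj
      rw [pow_succ', Module.End.mul_apply, LinearMap.sub_apply, Module.End.one_apply]
      refine step _ (by omega) _ ?_
      rw [show Module.finrank k V - (j + 1) + 1 = Module.finrank k V - j by omega]
      exact ih (by omega)
  have h' := h _ le_rfl
  rw [Nat.sub_self, Submodule.finrank_eq_zero.1 (hrk 0 (Nat.zero_le _)), Submodule.mem_bot] at h'
  rw [h', LinearMap.zero_apply]

end Groth.Agent.LieKol
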