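import Mathlib.Topology.Connected.Clopen
import Mathlib.GroupTheory.Solvable
import Mathlib.LinearAlgebra.Eigenspace.Triangularizable
import Mathlib.LinearAlgebra.Eigenspace.Minpoly
import Mathlib.LinearAlgebra.Determinant

/-!
# Lie–Kolchin, abstract form
-/

set_option autoImplicit false

open scoped commutatorElement

namespace Groth.Agent.LieKol

universe u v w

variable {Γ : Type w} [Group Γ] [TopologicalSpace Γ]

/-- The operations of the group which are needed to be continuous. -/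
structure WordsContinuous (Γ : Type w) [Group Γ] [TopologicalSpace Γ] : Prop where
  mulLeft : ∀ a : Γ, Continuous fun g => a * g
  conj : ∀ a : Γ, Continuous fun g => g⁻¹ * a * g
  comm : ∀ a : Γ, Continuous fun g : Γ => ⁅g, a⁆

theorem isPreconnected_commutator (hΓ : WordsContinuous Γ) {H : Subgroup Γ} (hH : IsPreconnected (H : Set Γ)) :
    IsPreconnected ((⁅H, H⁆ : Subgroup Γ) : Set Γ) := by
  set C : Set Γ := {x | ∃ g ∈ H, ∃ h ∈ H, ⁅g, h⁆ = x} with hCdef
  have hK : (⁅H, H⁆ : Subgroup Γ) = Subgroup.closure C := Subgroup.commutator_def H H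
  have hC : IsPreconnected C := by
    have : C = ⋃ h : H, (fun g => ⁅g, (h : Γ)⁆) '' (H : Set Γ) := by
      ext x
      simp only [hCdef, Set.mem_ofPred_eq, Set.mem_iUnion, Set.mem_image, SetLike.mem_coe, Subtype.exists]
      exact ⟨fun ⟨g, hg, h, hh, e⟩ => ⟨h, hh, g, hg, e⟩, fun ⟨h, hh, g, hg, e⟩ => ⟨g, hg, h, hh, e⟩⟩
    rw [this]
    refine isPreconnected_iUnion ⟨1, Set.mem_iInter.2 fun h => ⟨1, H.one_mem, commutatorElement_one_left _⟩⟩ fun h => ?_
    exact hH.image _ (hΓ.comm _).continuousOn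
  have h1C : (1 : Γ) ∈ C := ⟨1, H.one_mem, 1, H.one_mem, commutatorElement_one_left _⟩
  refine isPreconnected_of_forall 1 fun x hx => ?_
  rw [hK] at hx ⊢
  induction hx using Subgroup.closure_induction with
  | mem y hy => exact ⟨C, Subgroup.subset_closure, h1C, hy, hC⟩
  | one => exact ⟨{1}, by simp [Subgroup.one_mem], rfl, rfl, isPreconnected_singleton⟩
  | mul y z hy _ hp hq =>
    obtain ⟨P, hP, h1P, hyP, hPc⟩ := hp
    obtain ⟨Q, hQ, h1Q, hzQ, hQc⟩ := hq
    refine ⟨P ∪ (fun t => y * t) '' Q, Set.union_subset hP ?_, Or.inl h1P, Or.inr ⟨z, hzQ, rfl⟩,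
      IsPreconnected.union y hyP ⟨1, h1Q, mul_one y⟩ hPc (hQc.image _ (hΓ.mulLeft y).continuousOn)⟩
    rintro _ ⟨t, ht, rfl⟩
    exact Subgroup.mul_mem _ hy (hQ ht)
  | inv y hy hp =>
    obtain ⟨P, hP, h1P, hyP, hPc⟩ := hp
    refine ⟨(fun t => y⁻¹ * t) '' P, ?_, ⟨y, hyP, inv_mul_cancel y⟩, ⟨1, h1P, mul_one _⟩,
      hPc.image _ (hΓ.mulLeft _).continuousOn⟩
    rintro _ ⟨t, ht, rfl⟩
    exact Subgroup.mul_mem _ (Subgroup.inv_mem _ hy) (hP ht)

theorem eq_of_finite_values {α : Type*} {s : Set Γ} (hs : IsPreconnected s) {c₀ : α} (f : Γ → α)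
    (hfin : (f '' s).Finite) (hcl : ∀ c, ∃ F : Set Γ, IsClosed F ∧ ∀ g ∈ s, f g = c ↔ g ∈ F) {g₀ : Γ} (hg₀ : g₀ ∈ s)
    (h₀ : f g₀ = c₀) : ∀ g ∈ s, f g = c₀ := by
  choose F hF hFs using hcl
  intro g hg
  by_contra hne
  have := isPreconnected_closed_iff.1 hs (F c₀) (⋃ c ∈ (f '' s) \ {c₀}, F c) (hF _)
    ((hfin.sdiff).isClosed_biUnion fun c _ => hF c) (fun x hx => by
      rcases eq_or_ne (f x) c₀ with h | h
      · exact Or.inl ((hFs _ x hx).1 h)
      · exact Or.inr (Set.mem_biUnion ⟨⟨x, hx, rfl⟩, h⟩ ((hFs _ x hx).1 rfl)))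
    ⟨g₀, hg₀, (hFs _ g₀ hg₀).1 h₀⟩ ⟨g, hg, Set.mem_biUnion ⟨⟨g, hg, rfl⟩, hne⟩ ((hFs _ g hg).1 rfl)⟩
  obtain ⟨x, hx, h1, h2⟩ := this
  obtain ⟨c, hc, h3⟩ := Set.mem_iUnion₂.1 h2
  exact hc.2 (((hFs _ x hx).2 h3).symm.trans ((hFs _ x hx).2 h1))

variable {k : Type u} [Field k] {V : Type v} [AddCommGroup V] [Module k V] [FiniteDimensional k V]

/-- The fibres of the orbit of a vector are closed. -/
def EigClosed (ρ : Γ →* Module.End k V) : Prop := ∀ (v : V) (c : k), IsClosed {g : Γ | ρ g v = c • v}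

variable {ρ : Γ →* Module.End k V}

omit [TopologicalSpace Γ] in
theorem rho_ne_zero (g : Γ) {v : V} (hv : v ≠ 0) : ρ g v ≠ 0 := fun h => hv (by
  rw [show v = ρ g⁻¹ (ρ g v) by rw [← Module.End.mul_apply, ← map_mul, inv_mul_cancel, map_one, Module.End.one_apply],
    h, map_zero])

omit [TopologicalSpace Γ] in
/-- Operators which commute on a stable subspace have a common eigenvector in it. -/
theorem exists_eigvec_of_commute [IsAlgClosed k] (H : Subgroup Γ) (W : Submodule k V) (hW : W ≠ ⊥)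
    (hst : ∀ g ∈ H, ∀ w ∈ W, ρ g w ∈ W) (hcomm : ∀ g ∈ H, ∀ h ∈ H, ∀ w ∈ W, ρ g (ρ h w) = ρ h (ρ g w)) :
    ∃ v ∈ W, v ≠ 0 ∧ ∀ g ∈ H, ∃ c : k, ρ g v = c • v := by
  classical
  have hex : ∃ n, ∃ U : Submodule k V, U ≤ W ∧ U ≠ ⊥ ∧ (∀ g ∈ H, ∀ w ∈ U, ρ g w ∈ U) ∧ Module.finrank k U = n :=
    ⟨_, W, le_rfl, hW, hst, rfl⟩
  obtain ⟨U, hUW, hU, hUst, hUn⟩ := Nat.find_spec hex
  obtain ⟨v, hvU, hv⟩ := Submodule.exists_mem_ne_zero_of_ne_bot hU
  refine ⟨v, hUW hvU, hv, fun g hg => ?_⟩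
  haveI : Nontrivial U := Submodule.nontrivial_iff_ne_bot.2 hU
  obtain ⟨c, hc⟩ := Module.End.exists_eigenvalue ((ρ g).restrict (hUst g hg) : Module.End k U)
  refine ⟨c, ?_⟩
  let U' : Submodule k V := U ⊓ LinearMap.ker (ρ g - c • 1)
  have hU'U : U' ≤ U := inf_le_left
  have hne : U' ≠ ⊥ := by
    obtain ⟨x, hx⟩ := hc.exists_hasEigenvector
    refine (Submodule.ne_bot_iff _).2 ⟨x, ⟨x.2, ?_⟩, fun h => hx.2 (Subtype.ext h)⟩
    have := congrArg Subtype.val hx.apply_eq_smul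
    simp only [SetLike.mem_coe, LinearMap.mem_ker, LinearMap.sub_apply, LinearMap.smul_apply, Module.End.one_apply,
      sub_eq_zero]
    exact this
  have hst' : ∀ h ∈ H, ∀ w ∈ U', ρ h w ∈ U' := fun h hh w hw => by
    refine ⟨hUst h hh w hw.1, ?_⟩
    have h2 : ρ g w = c • w := by simpa [sub_eq_zero] using hw.2
    simp only [SetLike.mem_coe, LinearMap.mem_ker, LinearMap.sub_apply, LinearMap.smul_apply, Module.End.one_apply,
      sub_eq_zero]
    rw [hcomm g hg h hh w (hUW hw.1), h2, map_smul]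
  have heq : U' = U := by
    refine Submodule.eq_of_le_of_finrank_le hU'U ?_
    rw [hUn]
    exact Nat.find_min' hex ⟨U', hU'U.trans hUW, hne, hst', rfl⟩
  have : v ∈ U' := by rw [heq]; exact hvU
  simpa [sub_eq_zero] using this.2

/-- The derived subgroups of a connected group are connected. -/
theorem isPreconnected_derivedSeries (hΓ : WordsContinuous Γ) (hconn : IsPreconnected (Set.univ : Set Γ)) :
    ∀ n, IsPreconnected ((derivedSeries Γ n : Subgroup Γ) : Set Γ)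
  | 0 => by rw [derivedSeries_zero, Subgroup.coe_top]; exact hconn
  | n + 1 => by
    rw [derivedSeries_succ]
    exact isPreconnected_commutator hΓ (isPreconnected_derivedSeries hΓ hconn n)

theorem exists_eigvec_aux [IsAlgClosed k] (hΓ : WordsContinuous Γ) (hconn : IsPreconnected (Set.univ : Set Γ))
    (hρ : EigClosed ρ) : ∀ (j m : ℕ), derivedSeries Γ (m + j) = ⊥ →
    ∀ W : Submodule k V, W ≠ ⊥ → (∀ g ∈ derivedSeries Γ m, ∀ w ∈ W, ρ g w ∈ W) →
      ∃ v ∈ W, v ≠ 0 ∧ ∀ g ∈ derivedSeries Γ m, ∃ c : k, ρ g v = c • v := by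
  intro j
  induction j with
  | zero =>
    intro m hm W hW _
    obtain ⟨v, hvW, hv⟩ := Submodule.exists_mem_ne_zero_of_ne_bot hW
    refine ⟨v, hvW, hv, fun g hg => ⟨1, ?_⟩⟩
    rw [show derivedSeries Γ m = ⊥ from hm, Subgroup.mem_bot] at hg
    rw [hg, map_one, Module.End.one_apply, one_smul]
  | succ j ih =>
    intro m hm W hW hst
    set H := derivedSeries Γ m with hH
    set K := derivedSeries Γ (m + 1) with hKdef
    have hK : K = ⁅H, H⁆ := derivedSeries_succ Γ m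
    have hKH : K ≤ H := derivedSeries_antitone Γ (Nat.le_succ m)
    obtain ⟨v₀, hv₀W, hv₀, hv₀e⟩ := ih (m + 1) (by rw [Nat.add_right_comm, add_assoc]; exact hm) W hW
      fun g hg => hst g (hKH hg)
    choose χ hχ using hv₀e
    let Wχ : Submodule k V := W ⊓ ⨅ h : K, LinearMap.ker (ρ (h : Γ) - χ h h.2 • 1)
    have hmem : ∀ w, w ∈ Wχ ↔ w ∈ W ∧ ∀ h (hh : h ∈ K), ρ h w = χ h hh • w := fun w => by
      simp [Wχ, Submodule.mem_iInf, sub_eq_zero, Subtype.forall]
    have hne : Wχ ≠ ⊥ := (Submodule.ne_bot_iff _).2 ⟨v₀, (hmem _).2 ⟨hv₀W, hχ⟩, hv₀⟩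
    have hconj : ∀ g ∈ H, ∀ h ∈ K, g⁻¹ * h * g ∈ K := fun g hg h hh => by
      rw [show g⁻¹ * h * g = h * ⁅h⁻¹, g⁻¹⁆ by simp [commutatorElement_def, mul_assoc]]
      exact K.mul_mem hh (hK ▸ Subgroup.commutator_mem_commutator (H.inv_mem (hKH hh)) (H.inv_mem hg))
    have hHc := isPreconnected_derivedSeries hΓ hconn m
    -- the character is invariant under conjugation
    have hinv : ∀ h (hh : h ∈ K), ∀ g (hg : g ∈ H), χ (g⁻¹ * h * g) (hconj g hg h hh) = χ h hh := by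
      intro h hh
      classical
      let f : Γ → k := fun g => if hg : g⁻¹ * h * g ∈ K then χ _ hg else 0
      have hf : ∀ g, (hg : g ∈ H) → f g = χ _ (hconj g hg h hh) := fun g hg => dif_pos _
      have key := eq_of_finite_values hHc f (c₀ := χ h hh) ?_ ?_ H.one_mem
        ((hf 1 H.one_mem).trans (by simp only [inv_one, one_mul, mul_one]))
      · exact fun g hg => (hf g hg).symm.trans (key g hg)
      · refine (Module.End.finite_hasEigenvalue (ρ h)).subset ?_
        rintro _ ⟨g, hg, rfl⟩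
        refine Module.End.hasEigenvalue_of_hasEigenvector (x := ρ g v₀) ⟨?_, rho_ne_zero g hv₀⟩
        rw [Module.End.mem_eigenspace_iff, hf g hg, ← Module.End.mul_apply, ← map_mul,
          show h * g = g * (g⁻¹ * h * g) by rw [mul_assoc, mul_inv_cancel_left], map_mul, Module.End.mul_apply,
          hχ _ (hconj g hg h hh), map_smul]
      · intro c
        refine ⟨(fun g => g⁻¹ * h * g) ⁻¹' {x | ρ x v₀ = c • v₀}, (hρ v₀ c).preimage (hΓ.conj h), fun g hg => ?_⟩
        simp only [Set.mem_preimage, Set.mem_ofPred_eq]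
        rw [hf g hg, hχ _ (hconj g hg h hh)]
        exact ⟨fun e => by rw [e], fun e => smul_left_injective k hv₀ e⟩
    have hstab : ∀ g ∈ H, ∀ w ∈ Wχ, ρ g w ∈ Wχ := fun g hg w hw => by
      rw [hmem] at hw ⊢
      refine ⟨hst g hg w hw.1, fun h hh => ?_⟩
      rw [← Module.End.mul_apply, ← map_mul, show h * g = g * (g⁻¹ * h * g) by rw [mul_assoc, mul_inv_cancel_left],
        map_mul, Module.End.mul_apply, hw.2 _ (hconj g hg h hh), map_smul, hinv h hh g hg]
    -- the character is trivial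
    haveI : Nontrivial Wχ := Submodule.nontrivial_iff_ne_bot.2 hne
    let r : H →* Module.End k Wχ :=
      { toFun := fun g => (ρ (g : Γ)).restrict (hstab g g.2)
        map_one' := LinearMap.ext fun w => Subtype.ext (by simp)
        map_mul' := fun g g' => LinearMap.ext fun w => Subtype.ext (by simp) }
    have hcK : ∀ g ∈ H, ∀ g' ∈ H, ⁅g, g'⁆ ∈ K := fun g hg g' hg' => hK ▸ Subgroup.commutator_mem_commutator hg hg'
    have hdet : ∀ g (hg : g ∈ H), ∀ g' (hg' : g' ∈ H), χ ⁅g, g'⁆ (hcK g hg g' hg') ^ Module.finrank k Wχ = 1 := by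
      intro g hg g' hg'
      have h1 : r ⁅(⟨g, hg⟩ : H), (⟨g', hg'⟩ : H)⁆ = χ ⁅g, g'⁆ (hcK g hg g' hg') • 1 := LinearMap.ext fun w => Subtype.ext (by
        show ρ ((⁅(⟨g, hg⟩ : H), (⟨g', hg'⟩ : H)⁆ : H) : Γ) w = _
        rw [show ((⁅(⟨g, hg⟩ : H), (⟨g', hg'⟩ : H)⁆ : H) : Γ) = ⁅g, g'⁆ from rfl, ((hmem _).1 w.2).2 _ (hcK g hg g' hg')]
        rfl)
      have h2 := congrArg LinearMap.det h1
      let D : H →* k := LinearMap.det.comp r
      have h3 : ∀ a b : H, D ⁅a, b⁆ = 1 := fun a b => by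
        rw [commutatorElement_def, map_mul, map_mul, map_mul]
        calc D a * D b * D a⁻¹ * D b⁻¹ = (D a * D a⁻¹) * (D b * D b⁻¹) := by ring
          _ = 1 := by rw [← map_mul, ← map_mul, mul_inv_cancel, mul_inv_cancel, map_one, one_mul]
      rw [show LinearMap.det (r ⁅(⟨g, hg⟩ : H), (⟨g', hg'⟩ : H)⁆) = 1 from h3 _ _, LinearMap.det_smul, map_one,
        mul_one] at h2
      exact h2.symm
    have hcom1 : ∀ g (hg : g ∈ H), ∀ g' (hg' : g' ∈ H), χ ⁅g, g'⁆ (hcK g hg g' hg') = 1 := by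
      intro g hg g' hg'
      classical
      let f : Γ → k := fun x => if hx : ⁅x, g'⁆ ∈ K then χ _ hx else 0
      have hf : ∀ x, (hx : x ∈ H) → f x = χ _ (hcK x hx g' hg') := fun x hx => dif_pos _
      have h11 : f 1 = 1 := by
        rw [hf 1 H.one_mem]
        have := hχ _ (hcK 1 H.one_mem g' hg')
        have h0 : ρ ⁅(1 : Γ), g'⁆ v₀ = v₀ := by rw [commutatorElement_one_left, map_one, Module.End.one_apply]
        exact (smul_left_injective k hv₀ (this.symm.trans (h0.trans (one_smul k v₀).symm)))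
      have key := eq_of_finite_values hHc f ?_ ?_ H.one_mem h11
      · exact (hf g hg).symm.trans (key g hg)
      · have hd : Module.finrank k Wχ ≠ 0 := (Module.finrank_pos).ne'
        refine ((Polynomial.nthRoots (Module.finrank k Wχ) (1 : k)).toFinset.finite_toSet).subset ?_
        rintro _ ⟨x, hx, rfl⟩
        rw [Finset.mem_coe, Multiset.mem_toFinset, Polynomial.mem_nthRoots (Nat.pos_of_ne_zero hd), hf x hx]
        exact hdet x hx g' hg'
      · intro c
        refine ⟨(fun x => ⁅x, g'⁆) ⁻¹' {x | ρ x v₀ = c • v₀}, (hρ v₀ c).preimage (hΓ.comm g'), fun x hx => ?_⟩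
        simp only [Set.mem_preimage, Set.mem_ofPred_eq]
        rw [hf x hx, hχ _ (hcK x hx g' hg')]
        exact ⟨fun e => by rw [e], fun e => smul_left_injective k hv₀ e⟩
    obtain ⟨v, hv, hv0, hve⟩ := exists_eigvec_of_commute (ρ := ρ) H Wχ hne hstab fun g hg g' hg' w hw => by
      have h2 := ((hmem _).1 (hstab g' hg' _ (hstab g hg _ hw))).2 _ (hcK g hg g' hg')
      rw [hcom1 g hg g' hg', one_smul, ← Module.End.mul_apply (ρ g'), ← map_mul, ← Module.End.mul_apply, ← map_mul] at h2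
      rw [← Module.End.mul_apply, ← map_mul, ← Module.End.mul_apply, ← map_mul]
      rw [← h2]
      congr 2
      simp [commutatorElement_def, mul_assoc]
    exact ⟨v, ((hmem _).1 hv).1, hv0, hve⟩

/-- **Lie–Kolchin**: a connected solvable group of operators has a common eigenvector. -/
theorem exists_eigvec [IsAlgClosed k] [Group.IsSolvable Γ] (hΓ : WordsContinuous Γ)
    (hconn : IsPreconnected (Set.univ : Set Γ)) (hρ : EigClosed ρ) [Nontrivial V] :
    ∃ v : V, v ≠ 0 ∧ ∀ g, ∃ c : k, ρ g v = c • v := by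
  obtain ⟨n, hn⟩ := (isSolvable_def Γ).1 ‹_›
  obtain ⟨v, -, hv, he⟩ := exists_eigvec_aux hΓ hconn hρ n 0 (by rwa [zero_add]) ⊤ top_ne_bot fun _ _ _ _ => trivial
  exact ⟨v, hv, fun g => he g (by rw [derivedSeries_zero]; trivial)⟩

end Groth.Agent.LieKol
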